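import Groth.Agent.S18976
import Groth.Agent.Lib.AssocBundle19.Basic
import Groth.Agent.Lib.SchDesc12.Effective
import Groth.Agent.Lib.TorsorSch25.Basic

/-!
# Factoring a torsor through the quotient by the kernel of a faithfully flat homomorphism

For a `G`-torsor `φ : X ⟶ Y` and a faithfully flat homomorphism `q : G ⟶ Q` with kernel `N`, the associated bundle
`W = X ×^G Q` is a `Q`-torsor over `Y` and `X ⟶ W` is an `N`-torsor.
-/

set_option autoImplicit false
set_option linter.style.haveILetI false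
set_option backward.isDefEq.respectTransparency.types false

universe u

open CategoryTheory Limits MonoidalCategory CartesianMonoidalCategory MonObj AlgebraicGeometry

namespace Groth.Agent.SpecialExt15

open Groth.Agent.AlgGrpBasic19

variable {S : Scheme.{u}}

/-- Points of the target of a cover lift after a cover. -/
theorem exists_cover_lift {P W : Over S} (c : P ⟶ W) [Flat c.left] [Surjective c.left] [QuasiCompact c.left]
    {T : Over S} (w : T ⟶ W) :
    ∃ (T' : Over S) (d : T' ⟶ T) (p : T' ⟶ P), Flat d.left ∧ Surjective d.left ∧ QuasiCompact d.left ∧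
      p ≫ c = d ≫ w := by
  refine ⟨Over.mk (pullback.fst w.left c.left ≫ T.hom), Over.homMk (pullback.fst _ _) rfl,
    Over.homMk (pullback.snd _ _) ?_, ?_, ?_, ?_, ?_⟩
  · show pullback.snd w.left c.left ≫ P.hom = pullback.fst w.left c.left ≫ T.hom
    rw [← Over.w c, ← pullback.condition_assoc, Over.w w]
  · exact MorphismProperty.pullback_fst (P := @Flat) _ _ ‹_›
  · exact MorphismProperty.pullback_fst (P := @Surjective) _ _ ‹_›
  · exact MorphismProperty.pullback_fst (P := @QuasiCompact) _ _ ‹_›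
  · exact Over.OverMorphism.ext pullback.condition.symm

/-- The bundle associated to a torsor and an affine scheme with action (any characteristic). -/
theorem exists_assoc {k : Type u} [Field k] (G X Y F : Over (Spec (CommRingCat.of k))) [GrpObj G] [IsAffine G.left]
    [LocallyOfFiniteType G.hom] (a : AlgGrp.Action G X) (φ : X ⟶ Y) (hcart : IsPullback a.act (snd G X) φ φ)
    (hloc : NonAbH1.IsLocallyTrivialFor Scheme.fpqcPrecoverage (Over.mk φ.left : Over Y.left))
    [IsAffine F.left] (b : AlgGrp.Action G F) :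
    ∃ (Q : Over (Spec (CommRingCat.of k))) (q : X ⊗ F ⟶ Q) (r : Q ⟶ Y),
      q ≫ r = fst X F ≫ φ ∧
      IsPullback (a.prod b).act (snd G (X ⊗ F)) q q ∧
      NonAbH1.IsLocallyTrivialFor Scheme.fpqcPrecoverage (Over.mk q.left : Over Q.left) := by
  obtain ⟨h1, h2, h3⟩ := Groth.Agent.GITQuot.isAffineHom_flat_surjective hcart hloc
  have hsq : IsPullback a.act.left (snd G X).left φ.left φ.left := hcart.map (Over.forget _)
  haveI : IsAffineHom F.hom := inferInstance
  haveI : QuasiCompact φ.left := inferInstance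
  obtain ⟨Q, q, r, hr, hq, hpb⟩ := Groth.Agent.AssocBdl21.exists_bundle a b φ hsq
  have hw : q ≫ r = fst X F ≫ φ := Over.OverMorphism.ext (by simpa using hpb.w.symm)
  have houter : IsPullback (Groth.Agent.AssocBdl21.diag a b ≫ fst X F).left (snd G (X ⊗ F)).left φ.left
      (fst X F ≫ φ).left := Groth.Agent.AssocBdl21.isPullback_diag a b φ hsq
  have hsqQ : IsPullback (Groth.Agent.AssocBdl21.diag a b).left (snd G (X ⊗ F)).left q.left q.left := by
    refine IsPullback.of_right (h₁₂ := (fst X F).left) (v₁₃ := φ.left) (h₂₂ := r.left) ?_ ?_ hpb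
    · rw [← Over.comp_left, ← Over.comp_left, hw]; exact houter
    · rw [← Over.comp_left, ← Over.comp_left, hq]
  have hsqO : IsPullback (a.prod b).act (snd G (X ⊗ F)) q q :=
    IsPullback.of_map (Over.forget _) hq hsqQ
  have hlocQ : NonAbH1.IsLocallyTrivialFor Scheme.fpqcPrecoverage (Over.mk q.left : Over Q.left) := by
    obtain ⟨R, hR, hs⟩ := hloc
    refine ⟨_, Precoverage.pullbackArrows_mem r.left hR, ?_⟩
    intro S' f hf
    obtain ⟨W, v, hv, p, hp⟩ := Groth.Agent.TorsorSch25.exists_of_pullbackArrows hf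
    obtain ⟨s, hs'⟩ := hs v hv
    have hs'' : s ≫ φ.left = v := hs'
    have hcond : (p ≫ s) ≫ φ.left = f ≫ r.left := by rw [Category.assoc, hs'', hp]
    exact ⟨hpb.lift (p ≫ s) f hcond, hpb.lift_snd _ _ _⟩
  exact ⟨Q, q, r, hw, hsqO, hlocQ⟩

variable (k : Type u) [Field k] [IsAlgClosed k]

theorem exists_factor (G N Q X Y : Over (Spec (CommRingCat.of k))) [GrpObj G] [GrpObj N] [GrpObj Q]
    [IsAffine G.left] [LocallyOfFiniteType G.hom] [IsAffine Q.left]
    (iN : N ⟶ G) [IsMonHom iN] [Mono iN] (q : G ⟶ Q) [IsMonHom q] [Flat q.left] [Surjective q.left]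
    [QuasiCompact q.left] (hker : AlgGrp.IsKernel iN q)
    (a : AlgGrp.Action G X) (φ : X ⟶ Y) (hcart : IsPullback a.act (snd G X) φ φ)
    (hloc : NonAbH1.IsLocallyTrivialFor Scheme.fpqcPrecoverage (Over.mk φ.left : Over Y.left)) :
    ∃ (W : Over (Spec (CommRingCat.of k))) (ψ : X ⟶ W) (r : W ⟶ Y) (bQ : AlgGrp.Action Q W),
      ψ ≫ r = φ ∧
      IsPullback (a.restrict iN).act (snd N X) ψ ψ ∧
      NonAbH1.IsLocallyTrivialFor Scheme.fpqcPrecoverage (Over.mk ψ.left : Over W.left) ∧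
      IsPullback bQ.act (snd Q W) r r ∧
      NonAbH1.IsLocallyTrivialFor Scheme.fpqcPrecoverage (Over.mk r.left : Over Y.left) := by
  let b : AlgGrp.Action G Q := (NonAbH1.trivialAction Q).restrict q
  have hb : ∀ {T : Over (Spec (CommRingCat.of k))} (g : T ⟶ G) (h : T ⟶ Q),
      lift g h ≫ b.act = (g ≫ q) * h := fun g h => by
    rw [AlgGrp.Action.lift_restrict_act, Hom.mul_def]; rfl
  obtain ⟨W, qW, r, hrw, hsq, hlocW⟩ := exists_assoc G X Y Q a φ hcart hloc b
  obtain ⟨haff, hfl, hsu⟩ := Groth.Agent.GITQuot.isAffineHom_flat_surjective hsq hlocW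
  haveI : QuasiCompact qW.left := inferInstance
  -- points of `W`
  have hinv : ∀ {T : Over (Spec (CommRingCat.of k))} (g : T ⟶ G) (x : T ⟶ X) (h : T ⟶ Q),
      lift (lift g x ≫ a.act) ((g ≫ q) * h) ≫ qW = lift x h ≫ qW := fun g x h => by
    rw [← hb, ← AlgGrp.Action.lift_prod_act, Category.assoc, hsq.w, lift_snd_assoc]
  have hex : ∀ {T : Over (Spec (CommRingCat.of k))} (x x' : T ⟶ X) (h h' : T ⟶ Q),
      lift x h ≫ qW = lift x' h' ≫ qW → ∃ g : T ⟶ G, lift g x ≫ a.act = x' ∧ (g ≫ q) * h = h' := by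
    intro T x x' h h' e
    let l := hsq.lift (lift x' h') (lift x h) e.symm
    have hl : lift (l ≫ fst G _) (lift x h) = l :=
      CartesianMonoidalCategory.hom_ext _ _ (by simp) (by rw [lift_snd]; exact (hsq.lift_snd _ _ _).symm)
    have h2 : lift (lift (l ≫ fst G _) x ≫ a.act) (((l ≫ fst G _) ≫ q) * h) = lift x' h' := by
      rw [← hb, ← AlgGrp.Action.lift_prod_act, hl]
      exact hsq.lift_fst _ _ _
    exact ⟨l ≫ fst G _, by simpa using congrArg (· ≫ fst X Q) h2, by simpa using congrArg (· ≫ snd X Q) h2⟩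
  have hfree : ∀ {T : Over (Spec (CommRingCat.of k))} (g g' : T ⟶ G) (x : T ⟶ X),
      lift g x ≫ a.act = lift g' x ≫ a.act → g = g' := fun g g' x e => by
    have : lift g x = lift g' x := hcart.hom_ext e (by simp)
    simpa using congrArg (· ≫ fst G X) this
  -- the action of `Q`
  let ν : Q ⊗ (X ⊗ Q) ⟶ W :=
    lift (snd Q (X ⊗ Q) ≫ fst X Q) ((snd Q (X ⊗ Q) ≫ snd X Q) * (fst Q (X ⊗ Q))⁻¹) ≫ qW
  have hν : ∀ {T : Over (Spec (CommRingCat.of k))} (p : T ⟶ Q ⊗ (X ⊗ Q)),
      p ≫ ν = lift (p ≫ snd Q (X ⊗ Q) ≫ fst X Q)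
        ((p ≫ snd Q (X ⊗ Q) ≫ snd X Q) * (p ≫ fst Q (X ⊗ Q))⁻¹) ≫ qW := fun p => by
    simp only [ν, comp_lift_assoc, MonObj.comp_mul, GrpObj.comp_inv]
  have hpb : IsPullback (Q ◁ qW).left (snd Q (X ⊗ Q)).left (snd Q W).left qW.left :=
    Groth.Agent.GITQuot.isPullback_whiskerLeft qW Q
  haveI : Flat (Q ◁ qW).left := MorphismProperty.of_isPullback (P := @Flat) hpb.flip hfl
  haveI : Surjective (Q ◁ qW).left := MorphismProperty.of_isPullback (P := @Surjective) hpb.flip hsu
  haveI : QuasiCompact (Q ◁ qW).left := MorphismProperty.of_isPullback (P := @QuasiCompact) hpb.flip inferInstance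
  obtain ⟨act, hact⟩ := exists_desc (Q ◁ qW) ν (fun T u v e => by
    have e1 : u ≫ fst Q _ = v ≫ fst Q _ := by simpa using congrArg (· ≫ fst Q W) e
    have e2 : (u ≫ snd Q _) ≫ qW = (v ≫ snd Q _) ≫ qW := by simpa using congrArg (· ≫ snd Q W) e
    have e3 : lift (u ≫ snd Q _ ≫ fst X Q) (u ≫ snd Q _ ≫ snd X Q) ≫ qW =
        lift (v ≫ snd Q _ ≫ fst X Q) (v ≫ snd Q _ ≫ snd X Q) ≫ qW := by
      simpa [← comp_lift] using e2
    obtain ⟨g, hg1, hg2⟩ := hex _ _ _ _ e3
    rw [hν, hν, ← hg1, ← hg2, e1, _root_.mul_assoc, hinv])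
  have hstar : ∀ {T : Over (Spec (CommRingCat.of k))} (h : T ⟶ Q) (x : T ⟶ X) (h' : T ⟶ Q),
      lift h (lift x h' ≫ qW) ≫ act = lift x (h' * h⁻¹) ≫ qW := fun h x h' => by
    rw [← lift_whiskerLeft h (lift x h') qW, Category.assoc, hact, hν]
    simp
  have hp : ∀ {T : Over (Spec (CommRingCat.of k))} (w : T ⟶ W), ∃ (T' : Over (Spec (CommRingCat.of k)))
      (d : T' ⟶ T) (x : T' ⟶ X) (h : T' ⟶ Q), Flat d.left ∧ Surjective d.left ∧ QuasiCompact d.left ∧
        lift x h ≫ qW = d ≫ w := fun w => by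
    obtain ⟨T', d, p, h1, h2, h3, h4⟩ := exists_cover_lift qW w
    exact ⟨T', d, p ≫ fst X Q, p ≫ snd X Q, h1, h2, h3, by rw [← comp_lift, lift_fst_snd, Category.comp_id, h4]⟩
  have hone : ∀ {T : Over (Spec (CommRingCat.of k))} (w : T ⟶ W), lift (1 : T ⟶ Q) w ≫ act = w := by
    intro T w
    obtain ⟨T', d, x, h, _, _, _, hd⟩ := hp w
    haveI := epi_of_cover d
    rw [← cancel_epi d, comp_lift_assoc, MonObj.comp_one, ← hd, hstar, inv_one, _root_.mul_one]
  have hmul : ∀ {T : Over (Spec (CommRingCat.of k))} (g g' : T ⟶ Q) (w : T ⟶ W),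
      lift (g * g') w ≫ act = lift g (lift g' w ≫ act) ≫ act := by
    intro T g g' w
    obtain ⟨T', d, x, h, _, _, _, hd⟩ := hp w
    haveI := epi_of_cover d
    rw [← cancel_epi d, comp_lift_assoc, comp_lift_assoc, comp_lift_assoc, MonObj.comp_mul, ← hd, hstar, hstar,
      hstar, mul_inv_rev, _root_.mul_assoc]
  let bQ : AlgGrp.Action Q W :=
    { act := act
      one_act := by
        apply AlgGrp.Action.hom_ext_lift₂
        intro T u w
        have hu : u ≫ η[Q] = 1 := by rw [Hom.one_def, toUnit_unique (toUnit T) u]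
        rw [lift_whiskerRight_assoc, hu, hone, leftUnitor_hom, lift_snd]
      mul_act := by
        apply AlgGrp.Action.hom_ext_lift₃
        intro T g g' w
        rw [lift_whiskerRight_assoc, ← Hom.mul_def, hmul, lift_lift_associator_hom_assoc,
          lift_whiskerLeft_assoc] }
  -- the morphism `X ⟶ W`
  let ψ : X ⟶ W := lift (𝟙 X) 1 ≫ qW
  have hψ : ∀ {T : Over (Spec (CommRingCat.of k))} (x : T ⟶ X), x ≫ ψ = lift x 1 ≫ qW := fun x => by
    simp only [ψ, comp_lift_assoc, Category.comp_id, MonObj.comp_one]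
  have hψr : ψ ≫ r = φ := by simp only [ψ, Category.assoc, hrw, lift_fst_assoc, Category.id_comp]
  have hr : ∀ {T : Over (Spec (CommRingCat.of k))} (x : T ⟶ X) (h : T ⟶ Q), lift x h ≫ qW ≫ r = x ≫ φ :=
    fun x h => by rw [hrw, lift_fst_assoc]
  refine ⟨W, ψ, r, bQ, hψr, ?_, ?_, ?_, ?_⟩
  · -- the `N`-torsor
    have hN : ∀ {T : Over (Spec (CommRingCat.of k))} (n : T ⟶ N), (n ≫ iN) ≫ q = 1 := fun {T} n => by
      rw [Category.assoc, hker.w, ← Category.assoc, comp_toUnit, Hom.one_def]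
    have hw : (a.restrict iN).act ≫ ψ = snd N X ≫ ψ := by
      rw [hψ, hψ]
      have := hinv (fst N X ≫ iN) (snd N X) 1
      rw [hN, _root_.one_mul, ← AlgGrp.Action.lift_restrict_act, lift_fst_snd, Category.id_comp] at this
      exact this
    have key : ∀ s : PullbackCone ψ ψ, ∃ n : s.pt ⟶ N, lift (n ≫ iN) s.snd ≫ a.act = s.fst := fun s => by
      have e := s.condition.symm
      rw [hψ, hψ] at e
      obtain ⟨g, hg1, hg2⟩ := hex _ _ _ _ e
      rw [_root_.mul_one] at hg2
      exact ⟨hker.lift g (toUnit _) (by rw [hg2, Hom.one_def]), by rw [hker.lift_fst]; exact hg1⟩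
    choose n hn using key
    refine ⟨⟨hw⟩, ⟨PullbackCone.IsLimit.mk hw (fun s => lift (n s) s.snd)
      (fun s => by rw [AlgGrp.Action.lift_restrict_act]; exact hn s) (fun s => lift_snd _ _)
      (fun s m h1 h2 => ?_)⟩⟩
    have hm : m = lift (m ≫ fst N X) s.snd := by rw [← h2, ← comp_lift, lift_fst_snd, Category.comp_id]
    rw [hm] at h1 ⊢
    rw [AlgGrp.Action.lift_restrict_act, ← hn s] at h1
    rw [show m ≫ fst N X = n s from (cancel_mono iN).1 (hfree _ _ _ h1)]
  · -- `ψ` is locally trivial: lift a point `(x, q g)` of `W` to `g⁻¹ x`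
    let C : Scheme.{u} := pullback (snd X Q).left q.left
    let c : C ⟶ W.left := pullback.fst (snd X Q).left q.left ≫ qW.left
    haveI : Flat (pullback.fst (snd X Q).left q.left) := MorphismProperty.pullback_fst _ _ ‹_›
    haveI : Surjective (pullback.fst (snd X Q).left q.left) := MorphismProperty.pullback_fst _ _ ‹_›
    haveI : QuasiCompact (pullback.fst (snd X Q).left q.left) := MorphismProperty.pullback_fst _ _ ‹_›
    refine ⟨_, SchDesc12.single_mem_fpqc c, ?_⟩
    rintro _ _ ⟨⟨⟩⟩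
    let T : Over (Spec (CommRingCat.of k)) := Over.mk (pullback.fst (snd X Q).left q.left ≫ (X ⊗ Q).hom)
    let p : T ⟶ X ⊗ Q := Over.homMk (pullback.fst _ _) rfl
    let g : T ⟶ G := Over.homMk (pullback.snd (snd X Q).left q.left) (by
      show _ = pullback.fst (snd X Q).left q.left ≫ (X ⊗ Q).hom
      rw [← Over.w q, ← pullback.condition_assoc, Over.w (snd X Q)])
    have hg : g ≫ q = p ≫ snd X Q := Over.OverMorphism.ext pullback.condition.symm
    let x' : T ⟶ X := lift g⁻¹ (p ≫ fst X Q) ≫ a.act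
    refine ⟨x'.left, ?_⟩
    have : x' ≫ ψ = p ≫ qW := by
      rw [hψ]
      have := hinv g⁻¹ (p ≫ fst X Q) (p ≫ snd X Q)
      rw [GrpObj.inv_comp, hg, inv_mul_cancel, ← comp_lift, lift_fst_snd, Category.comp_id] at this
      exact this
    exact congrArg CommaMorphism.left this
  · -- the `Q`-torsor
    refine AssocBundle19.isPullback_of_local _ _ _ _ ?_ ?_ ?_
    · show act ≫ r = snd Q W ≫ r
      obtain ⟨T', d, x, h, _, _, _, hd⟩ := hp (snd Q W)
      haveI := epi_of_cover d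
      rw [← cancel_epi d, ← reassoc_of% hd, ← Category.assoc]
      have : d ≫ act = lift x (h * (d ≫ fst Q W)⁻¹) ≫ qW := by
        rw [← hstar, hd, ← comp_lift_assoc, lift_fst_snd, Category.id_comp]
      rw [this, Category.assoc, hr, hr]
    · intro T u v e1 e2
      obtain ⟨T', d, x, h, _, _, _, hd⟩ := hp (u ≫ snd Q W)
      haveI := epi_of_cover d
      have e1' : lift (d ≫ u ≫ fst Q W) (lift x h ≫ qW) ≫ act = lift (d ≫ v ≫ fst Q W) (lift x h ≫ qW) ≫ act := by
        have h1 : lift (d ≫ u ≫ fst Q W) (lift x h ≫ qW) = d ≫ u := by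
          rw [hd]; exact CartesianMonoidalCategory.hom_ext _ _ (by simp) (by simp)
        have h2 : lift (d ≫ v ≫ fst Q W) (lift x h ≫ qW) = d ≫ v := by
          rw [hd]; exact CartesianMonoidalCategory.hom_ext _ _ (by simp) (by simp [show u ≫ snd Q W = v ≫ snd Q W from e2])
        rw [h1, h2, Category.assoc, Category.assoc, show u ≫ act = v ≫ act from e1]
      rw [hstar, hstar] at e1'
      obtain ⟨g, hg1, hg2⟩ := hex _ _ _ _ e1'
      have hg : g = 1 := hfree _ _ x (by rw [act_one]; exact hg1)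
      rw [hg, MonObj.one_comp, _root_.one_mul, mul_left_cancel_iff, inv_inj] at hg2
      exact CartesianMonoidalCategory.hom_ext _ _ ((cancel_epi d).1 hg2) e2
    · intro T v u e
      obtain ⟨T₁, d₁, x', h', _, _, _, hd₁⟩ := hp v
      obtain ⟨T₂, d₂, x, h, _, _, _, hd₂⟩ := hp (d₁ ≫ u)
      have ev : lift (d₂ ≫ x') (d₂ ≫ h') ≫ qW = d₂ ≫ d₁ ≫ v := by
        rw [← comp_lift, Category.assoc, hd₁]
      have e' : (d₂ ≫ x') ≫ φ = x ≫ φ := by
        rw [← hr (d₂ ≫ x') (d₂ ≫ h'), ← hr x h, reassoc_of% ev, reassoc_of% hd₂, e]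
      have hl := hcart.lift_fst (d₂ ≫ x') x e'
      have hl2 : lift (hcart.lift (d₂ ≫ x') x e' ≫ fst G X) x = hcart.lift (d₂ ≫ x') x e' :=
        CartesianMonoidalCategory.hom_ext _ _ (by simp) (by rw [lift_snd]; exact (hcart.lift_snd _ _ _).symm)
      let g := hcart.lift (d₂ ≫ x') x e' ≫ fst G X
      have hg : lift g x ≫ a.act = d₂ ≫ x' := by simp only [g, hl2, hl]
      have hsrc : lift x ((g ≫ q)⁻¹ * (d₂ ≫ h')) ≫ qW = d₂ ≫ d₁ ≫ v := by
        rw [← hinv g, hg, ← _root_.mul_assoc, mul_inv_cancel, _root_.one_mul, ev]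
      refine ⟨T₂, d₂ ≫ d₁, lift (((g ≫ q)⁻¹ * (d₂ ≫ h'))⁻¹ * h) (lift x h ≫ qW), ?_, ?_, ?_, ?_, ?_⟩
      · rw [Over.comp_left]; infer_instance
      · rw [Over.comp_left]; infer_instance
      · rw [Over.comp_left]; infer_instance
      · show _ ≫ act = _
        rw [hstar, mul_inv_rev, inv_inv, mul_inv_cancel_left, hsrc, Category.assoc]
      · rw [lift_snd, hd₂, Category.assoc]
  · obtain ⟨R, hR, hs⟩ := hloc
    refine ⟨R, hR, fun S' f hf => ?_⟩
    obtain ⟨s, hs'⟩ := hs f hf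
    refine ⟨s ≫ ψ.left, ?_⟩
    show (s ≫ ψ.left) ≫ r.left = f
    rw [Category.assoc, ← Over.comp_left, hψr]
    exact hs'

end Groth.Agent.SpecialExt15
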